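import Cfsg.Agent.Lib.KnownA.MathieuOut.Packed

/-!
A depth-first enumeration of all elements `σ` of a stabiliser in `Cfsg.M24` with `σ u = v σ`:
such an element is determined by the images of representatives of the orbits of `u`.
-/

set_option autoImplicit false

namespace CfsgLib.MathieuOut

open Cfsg CfsgLib.Spor
open scoped Pointwise

/-- extend an assignment along the orbit of `i` under `u`, sent to the orbit of `t` under `v` -/
def orbitAsg (u v : ℕ) : ℕ → ℕ → ℕ → List (ℕ × ℕ) → List (ℕ × ℕ)
  | 0, _, _, l => l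
  | n + 1, i, t, l => orbitAsg u v n (getP u i) (getP v t) ((i, t) :: l)

/-- `n`-fold image -/
def iterP (a : ℕ) : ℕ → ℕ → ℕ
  | 0, x => x
  | n + 1, x => iterP a n (getP a x)

/-- possible images of the point `i` -/
def targetOK (masks prev : List ℕ) (v n i : ℕ) (l : List (ℕ × ℕ)) (t : ℕ) : Bool :=
  (masks.all fun m => m.testBit t == m.testBit i)
    && (prev.all fun b => Nat.beq t b == Nat.beq i b)
    && Nat.beq (iterP v n t) t
    && !(l.any fun e => Nat.beq e.2 t)

/-- image of the mask `w` under a partial assignment -/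
def actL : List (ℕ × ℕ) → ℕ → ℕ
  | [], _ => 0
  | (i, t) :: l, w => if w.testBit i then (1 <<< t) ||| actL l w else actL l w

/-- value of a partial assignment -/
def lookP : List (ℕ × ℕ) → ℕ → ℕ
  | [], _ => 0
  | (i, t) :: l, j => if Nat.beq i j then t else lookP l j

/-- the search -/
def dfs (masks prev : List ℕ) (u v : ℕ) : List (ℕ × ℕ × List ℕ) → List (ℕ × ℕ) → List ℕ
  | [], l => [packL ((List.range 24).map (lookP l))]
  | (i, n, W) :: r, l =>
    ((List.range 24).filter (targetOK masks prev v n i l)).flatMap fun t =>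
      if W.all (fun w => inCode (actL (orbitAsg u v n i t l) w))
        then dfs masks prev u v r (orbitAsg u v n i t l) else []

/-- the points of the orbit -/
def orbitPts (u : ℕ) : ℕ → ℕ → List ℕ
  | 0, _ => []
  | n + 1, i => i :: orbitPts u n (getP u i)

/-- the plan visits every point once, each orbit is closed and each check word is a code word
supported on the points visited so far -/
def planOK (u : ℕ) : List (ℕ × ℕ × List ℕ) → List ℕ → Bool
  | [], done => (List.range 24).all fun j => done.any (Nat.beq j)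
  | (i, n, W) :: r, done =>
    Nat.blt i 24 && Nat.beq (iterP u n i) i && !(done.any (Nat.beq i))
      && (W.all fun w => inCode w && Nat.blt w 16777216 &&
            (List.range 24).all fun j => !w.testBit j || (orbitPts u n i ++ done).any (Nat.beq j))
      && planOK u r (orbitPts u n i ++ done)

/-- the assignment agrees with `σ` and is defined on the points `done` -/
def Agrees (σ : Equiv.Perm GolayPt) (done : List ℕ) (l : List (ℕ × ℕ)) : Prop :=
  (∀ e ∈ l, e.1 < 24 ∧ e.1 ∈ done ∧ e.2 = idx (σ (pt e.1))) ∧ ∀ j ∈ done, ∃ e ∈ l, e.1 = j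

section Sound

variable {masks prev : List ℕ} {u v : ℕ} {U V σ : Equiv.Perm GolayPt}

theorem comm_apply (hu : Rep U u) (hv : Rep V v) (hcomm : σ * U = V * σ) {i : ℕ} (hi : i < 24) :
    getP u i < 24 ∧ getP v (idx (σ (pt i))) = idx (σ (pt (getP u i))) := by
  have h1 := hu i hi
  refine ⟨h1 ▸ idx_lt _, ?_⟩
  rw [h1, pt_idx, hv.get]
  congr 1
  exact (DFunLike.congr_fun hcomm (pt i)).symm

theorem iterP_apply (hu : Rep U u) (hv : Rep V v) (hcomm : σ * U = V * σ) :
    ∀ (n i : ℕ), i < 24 → iterP v n (idx (σ (pt i))) = idx (σ (pt (iterP u n i)))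
  | 0, i, _ => rfl
  | n + 1, i, hi => by
    obtain ⟨h1, h2⟩ := comm_apply hu hv hcomm hi
    rw [iterP, iterP, h2]
    exact iterP_apply hu hv hcomm n _ h1

theorem agrees_orbitAsg (hu : Rep U u) (hv : Rep V v) (hcomm : σ * U = V * σ) :
    ∀ (n i : ℕ) (done : List ℕ) (l : List (ℕ × ℕ)), i < 24 → Agrees σ done l →
      Agrees σ (orbitPts u n i ++ done) (orbitAsg u v n i (idx (σ (pt i))) l)
  | 0, i, done, l, _, h => by simpa [orbitPts, orbitAsg] using h
  | n + 1, i, done, l, hi, h => by
    obtain ⟨h1, h2⟩ := comm_apply hu hv hcomm hi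
    rw [orbitAsg, h2]
    have h' : Agrees σ (i :: done) ((i, idx (σ (pt i))) :: l) := by
      refine ⟨fun e he => ?_, fun j hj => ?_⟩
      · rcases List.mem_cons.1 he with rfl | he
        · exact ⟨hi, List.mem_cons_self, rfl⟩
        · exact ⟨(h.1 e he).1, List.mem_cons_of_mem _ (h.1 e he).2.1, (h.1 e he).2.2⟩
      · rcases List.mem_cons.1 hj with rfl | hj
        · exact ⟨_, List.mem_cons_self, rfl⟩
        · obtain ⟨e, he, hej⟩ := h.2 j hj
          exact ⟨e, List.mem_cons_of_mem _ he, hej⟩
    have hrec := agrees_orbitAsg hu hv hcomm n _ (i :: done) _ h1 h'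
    have hmem : ∀ j, j ∈ orbitPts u (n + 1) i ++ done ↔
        j ∈ orbitPts u n (getP u i) ++ i :: done := by
      intro j
      simp only [orbitPts, List.mem_append, List.mem_cons]
      tauto
    exact ⟨fun e he => ⟨(hrec.1 e he).1, (hmem _).2 (hrec.1 e he).2.1, (hrec.1 e he).2.2⟩,
      fun j hj => hrec.2 j ((hmem j).1 hj)⟩

theorem testBit_actL {l : List (ℕ × ℕ)} {w j : ℕ} :
    (actL l w).testBit j = true ↔ ∃ e ∈ l, w.testBit e.1 = true ∧ e.2 = j := by
  induction l with
  | nil => simp [actL]
  | cons e l ih =>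
    obtain ⟨i, t⟩ := e
    by_cases hw : w.testBit i = true
    · simp [actL, hw, ih, Nat.one_shiftLeft, Nat.testBit_two_pow]
    · simp [actL, hw, ih]

theorem inCode_actL (hσ : σ ∈ M24) {done : List ℕ} {l : List (ℕ × ℕ)} (h : Agrees σ done l)
    {w : ℕ} (hw : inCode w = true) (hlt : w < 16777216)
    (hsub : ∀ j < 24, w.testBit j = true → j ∈ done) : inCode (actL l w) = true := by
  have hs : toSet (actL l w) = σ • toSet w := by
    ext p
    rw [mem_toSet, testBit_actL, Finset.mem_smul_finset]
    constructor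
    · rintro ⟨e, he, hbit, hp⟩
      obtain ⟨h1, -, h3⟩ := h.1 e he
      refine ⟨pt e.1, by simp [idx_pt h1, hbit], ?_⟩
      rw [Equiv.Perm.smul_def]
      exact idx_injective (h3.symm.trans hp)
    · rintro ⟨q, hq, rfl⟩
      rw [mem_toSet] at hq
      obtain ⟨e, he, hej⟩ := h.2 _ (hsub _ (idx_lt q) hq)
      refine ⟨e, he, hej ▸ hq, ?_⟩
      rw [(h.1 e he).2.2, hej, pt_idx]
      rfl
  have hlt' : actL l w < 2 ^ 24 := by
    refine Nat.lt_pow_two_of_testBit _ fun j hj => ?_
    by_contra hc
    rw [Bool.not_eq_false, testBit_actL] at hc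
    obtain ⟨e, he, -, rfl⟩ := hc
    rw [(h.1 e he).2.2] at hj
    exact absurd (idx_lt (σ (pt e.1))) (not_lt.2 hj)
  have := mem_M24_iff.1 hσ (toSet w)
    (by rw [mask_toSet (by simpa using hlt)]; exact mem_codeList_iff.2 ⟨by simpa using hlt, hw⟩)
  rw [← hs, mask_toSet hlt', mem_codeList_iff] at this
  exact this.2

theorem targetOK_apply (hσ : σ ∈ stabG masks prev) (hprev : ∀ b ∈ prev, b < 24)
    (hu : Rep U u) (hv : Rep V v) (hcomm : σ * U = V * σ) {done : List ℕ} {l : List (ℕ × ℕ)}
    (h : Agrees σ done l) {n i : ℕ} (hi : i < 24) (hn : iterP u n i = i) (hnd : i ∉ done) :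
    targetOK masks prev v n i l (idx (σ (pt i))) = true := by
  simp only [targetOK, Bool.and_eq_true, List.all_eq_true, beq_iff_eq, Nat.beq_eq,
    Bool.not_eq_true', List.any_eq_false]
  refine ⟨⟨⟨fun m hm => ?_, fun b hb => ?_⟩, ?_⟩, fun e he => ?_⟩
  · have h1 := hσ.2.1 m hm
    rw [Bool.eq_iff_iff, ← mem_toSet]
    conv_lhs => rw [← h1]
    rw [Finset.mem_smul_finset]
    constructor
    · rintro ⟨q, hq, hq'⟩
      rw [Equiv.Perm.smul_def] at hq'
      rw [σ.injective hq', mem_toSet, idx_pt hi] at hq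
      exact hq
    · intro hbit
      exact ⟨pt i, by simp [idx_pt hi, hbit], rfl⟩
  · have hfix := hσ.2.2 b hb
    rw [Bool.eq_iff_iff, Nat.beq_eq, Nat.beq_eq]
    constructor
    · intro e
      have h2 : σ (pt i) = σ (pt b) := by
        rw [hfix]; exact idx_injective (e.trans (idx_pt (hprev b hb)).symm)
      rw [← idx_pt hi, σ.injective h2, idx_pt (hprev b hb)]
    · rintro rfl
      rw [hfix, idx_pt hi]
  · rw [iterP_apply hu hv hcomm n i hi, hn]
  · intro hb
    obtain ⟨h1, h2, h3⟩ := h.1 e he
    apply hnd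
    have h4 : pt e.1 = pt i := σ.injective (idx_injective (h3.symm.trans hb))
    rw [← idx_pt hi, ← h4, idx_pt h1]
    exact h2

theorem mem_dfs (hσ : σ ∈ stabG masks prev) (hprev : ∀ b ∈ prev, b < 24) (hu : Rep U u)
    (hv : Rep V v) (hcomm : σ * U = V * σ) :
    ∀ (plan : List (ℕ × ℕ × List ℕ)) (done : List ℕ) (l : List (ℕ × ℕ)),
      planOK u plan done = true → Agrees σ done l → canon σ ∈ dfs masks prev u v plan l := by
  intro plan
  induction plan with
  | nil =>
    intro done l hplan h
    simp only [planOK, List.all_eq_true, List.mem_range, List.any_eq_true, Nat.beq_eq] at hplan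
    simp only [dfs, List.mem_singleton, canon_def]
    refine congrArg packL (List.map_congr_left fun j hj => ?_)
    obtain ⟨x, hx, rfl⟩ := hplan j (List.mem_range.1 hj)
    have hlook : ∀ l' : List (ℕ × ℕ), (∀ e ∈ l', e.2 = idx (σ (pt e.1))) →
        (∃ e ∈ l', e.1 = j) → lookP l' j = idx (σ (pt j)) := by
      intro l'
      induction l' with
      | nil => rintro - ⟨e, he, -⟩; simp at he
      | cons e l' ih =>
        obtain ⟨a, t⟩ := e
        intro hv' hex
        by_cases ha : a = j
        · subst ha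
          simp only [lookP, Nat.beq_refl, if_true]
          exact hv' (a, t) List.mem_cons_self
        · have : Nat.beq a j = false := by
            rw [← Bool.not_eq_true, Nat.beq_eq]; exact ha
          rw [lookP, this, if_neg (by simp)]
          refine ih (fun e he => hv' e (List.mem_cons_of_mem _ he)) ?_
          obtain ⟨e, he, hej⟩ := hex
          rcases List.mem_cons.1 he with rfl | he
          · exact absurd hej ha
          · exact ⟨e, he, hej⟩
    exact (hlook l (fun e he => (h.1 e he).2.2) (h.2 j hx)).symm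
  | cons s r ih =>
    obtain ⟨i, n, W⟩ := s
    intro done l hplan h
    simp only [planOK, Bool.and_eq_true, Nat.blt_eq, Nat.beq_eq, Bool.not_eq_true',
      List.any_eq_false, List.all_eq_true, List.mem_range, Bool.or_eq_true,
      List.any_eq_true] at hplan
    obtain ⟨⟨⟨⟨hi, hn⟩, hnd⟩, hW⟩, hr⟩ := hplan
    have h' := agrees_orbitAsg hu hv hcomm n i done l hi h
    simp only [dfs, List.mem_flatMap, List.mem_filter, List.mem_range]
    refine ⟨idx (σ (pt i)), ⟨idx_lt _, targetOK_apply hσ hprev hu hv hcomm h hi hn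
      (fun hm => hnd i hm rfl)⟩, ?_⟩
    rw [if_pos]
    · exact ih _ _ hr h'
    · rw [List.all_eq_true]
      intro w hw
      obtain ⟨⟨hwc, hwlt⟩, hwsub⟩ := hW w hw
      refine inCode_actL hσ.1 h' hwc hwlt fun j hj hbit => ?_
      rcases hwsub j hj with h0 | ⟨x, hx, rfl⟩
      · rw [hbit] at h0; exact absurd h0 (by decide)
      · exact hx

/-- completeness of the search -/
theorem canon_mem_dfs {plan : List (ℕ × ℕ × List ℕ)} (hplan : planOK u plan [] = true)
    (hσ : σ ∈ stabG masks prev) (hprev : ∀ b ∈ prev, b < 24) (hu : Rep U u) (hv : Rep V v)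
    (hcomm : σ * U = V * σ) : canon σ ∈ dfs masks prev u v plan [] :=
  mem_dfs hσ hprev hu hv hcomm plan [] [] hplan ⟨by simp, by simp⟩

end Sound

end CfsgLib.MathieuOut
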