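import Cfsg.Agent.Lib.KnownA.MathieuOut.Abstract
import Cfsg.Agent.Lib.KnownA.MathieuOut.Dfs
import Cfsg.Agent.Lib.Spor.M24Points
import Cfsg.Prelude.Def_Spor_Mathieu

/-!
Certificates bounding the outer automorphism groups of the stabilisers in `Cfsg.M24`, and the
small Mathieu groups as such stabilisers.
-/

set_option autoImplicit false

namespace CfsgLib.MathieuOut

open Cfsg CfsgLib.Spor
open scoped Pointwise

/-- all relators hold at `(x, b, y)` -/
def relOK (rels : List (List ℕ)) (x b y : ℕ) : Bool :=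
  rels.all fun w => eqP (evalW [x, b, y] w) idP

/-- the possible images of `(a, c)` -/
def validList (masks prev : List ℕ) (p k a b : ℕ) (planB : List (ℕ × ℕ × List ℕ))
    (rels : List (List ℕ)) : List (ℕ × ℕ) :=
  [normP a, normP (powP a (p - 1))].flatMap fun x =>
    ((dfs masks prev b (powP b k) planB []).filter (relOK rels x b)).map fun y => (x, y)

theorem exists_stab_rep {masks prev : List ℕ} (hprev : (prev.all fun b => Nat.blt b 24) = true)
    {a : ℕ} (ha : inStabP masks prev a = true) : ∃ σ ∈ stabG masks prev, Rep σ a :=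
  repIn_of_inStabP (fun b hb => by simpa [Nat.blt_eq] using List.all_eq_true.1 hprev b hb) ha

theorem subtype_closure_eq_top {H : Type*} [Group H] {G : Subgroup H} (a b c : G)
    (h : Subgroup.closure ({(a : H), (b : H), (c : H)} : Set H) = G) :
    Subgroup.closure ({a, b, c} : Set G) = ⊤ := by
  refine Subgroup.map_injective (f := G.subtype) G.subtype_injective ?_
  rw [MonoidHom.map_closure, Set.image_insert_eq, Set.image_insert_eq, Set.image_singleton,
    ← MonoidHom.range_eq_map, Subgroup.range_subtype]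
  exact h

theorem natCard_out_le_cert {masks prev : List ℕ}
    (hprev : (prev.all fun b => Nat.blt b 24) = true) {N : ℕ}
    (hN : Nat.card (stabG masks prev) = N) {p : ℕ} [hp : Fact p.Prime] (hp2 : ¬ p ^ 2 ∣ N)
    {s k a b c : ℕ} (hmem : ([a, b, c].all (inStabP masks prev)) = true)
    (hord : (eqP (powP a p) idP && !eqP a idP) = true)
    (hba : eqP (compP b a) (compP (powP a s) b) = true)
    (hcb : eqP (compP c b) (compP (powP b k) c) = true)
    (hs1 : s % p ≠ 1)
    (hs : ∀ j < p, j ≠ 0 → ∃ i < p, j * s ^ i % p = 1 ∨ j * s ^ i % p = p - 1)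
    (rows : List (ℕ × ℕ × ℕ)) (hrows : checkSLP rows [a, b, c] = true)
    (lev : List (ℕ × List ℕ)) (hlow : levelsLow [] lev = true)
    (hsub : (lev.all fun l => l.2.all fun t =>
      Nat.beq t idP || [a, b, c].any (Nat.beq t) || rows.any fun e => Nat.beq t e.1) = true)
    (hprod : N ≤ (lev.map fun l => l.2.length).prod)
    (planA planB : List (ℕ × ℕ × List ℕ)) (hplanA : planOK a planA [] = true)
    (hplanB : planOK b planB [] = true)
    (hCA : ((dfs masks prev a a planA []).all fun z =>
      (List.range p).any fun t => Nat.beq z (normP (powP a t))) = true)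
    (rels : List (List ℕ)) (hrels : relOK rels a b c = true) :
    Nat.card (Out (stabG masks prev)) ≤ (validList masks prev p k a b planB rels).length := by
  simp only [List.all_cons, List.all_nil, Bool.and_true, Bool.and_eq_true] at hmem
  obtain ⟨A, hA, hAa⟩ := exists_stab_rep hprev hmem.1
  obtain ⟨B, hB, hBb⟩ := exists_stab_rep hprev hmem.2.1
  obtain ⟨C, hC, hCc⟩ := exists_stab_rep hprev hmem.2.2
  have hprev' : ∀ b ∈ prev, b < 24 :=
    fun b hb => by simpa [Nat.blt_eq] using List.all_eq_true.1 hprev b hb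
  simp only [Bool.and_eq_true, Bool.not_eq_true'] at hord
  have hAp : A ^ p = 1 := (eqP_iff (rep_pow hAa p) rep_idP).1 hord.1
  have hA1 : A ≠ 1 := fun h => by
    rw [(eqP_iff hAa rep_idP).2 h] at hord
    exact absurd hord.2 (by decide)
  have hBA : B * A = A ^ s * B := (eqP_iff (hBb.mul hAa) ((rep_pow hAa s).mul hBb)).1 hba
  have hCB : C * B = B ^ k * C := (eqP_iff (hCc.mul hBb) ((rep_pow hBb k).mul hCc)).1 hcb
  have hgen : Subgroup.closure ({A, B, C} : Set (Equiv.Perm GolayPt)) = stabG masks prev := by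
    refine eq_of_levels ((Subgroup.closure_le _).2 ?_) ?_ rows hrows lev hlow hsub (hN ▸ hprod)
    · rintro x (rfl | rfl | rfl)
      exacts [hA, hB, hC]
    · intro x hx
      simp only [List.mem_cons, List.not_mem_nil, or_false] at hx
      rcases hx with rfl | rfl | rfl
      · exact ⟨A, Subgroup.subset_closure (by simp), hAa⟩
      · exact ⟨B, Subgroup.subset_closure (by simp), hBb⟩
      · exact ⟨C, Subgroup.subset_closure (by simp), hCc⟩
  let a' : stabG masks prev := ⟨A, hA⟩
  let b' : stabG masks prev := ⟨B, hB⟩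
  let c' : stabG masks prev := ⟨C, hC⟩
  have hord' : orderOf a' = p :=
    orderOf_eq_prime (Subtype.ext (by simpa [a'] using hAp))
      fun h => hA1 (congrArg Subtype.val h)
  refine natCard_out_le (a := a') (b := b') (c := c') (s := s) (k := k) (hN ▸ hp2) hord' ?_ ?_
    (subtype_closure_eq_top a' b' c' hgen) ?_ hs ?_ (fun g => canon g.1)
    (canon_injective.comp Subtype.val_injective) _ ?_
  · refine Subtype.ext ?_
    simpa [a', b', mul_inv_eq_iff_eq_mul] using hBA
  · exact Subtype.ext (by simpa [b', c'] using hCB)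
  · rw [sub_ne_zero, ← Nat.cast_one, ne_eq, ZMod.natCast_eq_natCast_iff',
      Nat.mod_eq_of_lt hp.out.one_lt]
    exact hs1
  · intro g hg
    have hmem' := canon_mem_dfs hplanA g.2 hprev' hAa hAa (congrArg Subtype.val hg)
    obtain ⟨t, -, ht⟩ := List.any_eq_true.1 (List.all_eq_true.1 hCA _ hmem')
    refine ⟨t, Subtype.ext ?_⟩
    rw [Nat.beq_eq, ← canon_eq_normP (rep_pow hAa t)] at ht
    simpa [a'] using canon_injective ht
  · intro φ hφb hφa hφc
    have hx : canon (φ a').1 ∈ [normP a, normP (powP a (p - 1))] := by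
      rcases hφa with h | h <;> rw [h]
      · exact List.mem_cons.2 (Or.inl (canon_eq_normP hAa))
      · refine List.mem_cons.2 (Or.inr (List.mem_singleton.2 ?_))
        rw [← canon_eq_normP (rep_pow hAa (p - 1))]
        congr 1
        rw [Subgroup.coe_inv]
        refine inv_eq_of_mul_eq_one_right ?_
        rw [← pow_succ', Nat.sub_add_cancel hp.out.one_le]
        exact hAp
    have hcc : (φ c').1 * B = B ^ k * (φ c').1 := by
      simpa [b'] using congrArg Subtype.val hφc
    have hy := canon_mem_dfs hplanB (φ c').2 hprev' hBb (rep_pow hBb k) hcc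
    refine List.mem_flatMap.2 ⟨_, hx, List.mem_map.2 ⟨_, List.mem_filter.2 ⟨hy, ?_⟩, rfl⟩⟩
    simp only [relOK, List.all_eq_true] at hrels ⊢
    intro w hw
    have h1 := rep_evalW (rep_getD_three (rep_canon (φ a').1) hBb (rep_canon (φ c').1)) w
    have h2 := rep_evalW (rep_getD_three hAa hBb hCc) w
    refine (eqP_iff h1 rep_idP).2 ?_
    have h3 : ((w.map fun i => ([a', b', c']).getD i 1).prod) = 1 := by
      refine Subtype.ext ?_
      rw [SubmonoidClass.coe_list_prod, List.map_map, OneMemClass.coe_one,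
        ← (eqP_iff h2 rep_idP).1 (hrels w hw)]
      refine congrArg List.prod (List.map_congr_left fun i _ => ?_)
      rcases i with _ | _ | _ | i <;> simp [a', b', c']
    have h4 := congrArg Subtype.val (congrArg φ h3)
    rw [map_list_prod, List.map_map, SubmonoidClass.coe_list_prod, List.map_map, map_one,
      OneMemClass.coe_one] at h4
    refine Eq.trans ?_ h4
    refine congrArg List.prod (List.map_congr_left fun i _ => ?_)
    rcases i with _ | _ | _ | i <;> simp [hφb, b']

theorem one_lt_natCard_out_cert {masks prev : List ℕ}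
    (hprev : (prev.all fun b => Nat.blt b 24) = true) {h a b : ℕ}
    (hh : isM24P h = true) (hmask : (masks.all fun m => masks.contains (actP h m)) = true)
    (hpt : (prev.all fun q => prev.contains (getP h q)) = true)
    (hout : ((masks.any fun m => Nat.blt m 16777216 && !Nat.beq (actP h m) m) ||
      prev.any fun q => !Nat.beq (getP h q) q) = true)
    (hmem : ([a, b].all (inStabP masks prev)) = true)
    (plan : List (ℕ × ℕ × List ℕ)) (hplan : planOK a plan [] = true)
    (hC : ((dfs [] [] a a plan []).all fun z =>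
      !(eqP (compP b z) (compP z b)) || eqP z idP) = true) :
    1 < Nat.card (Out (stabG masks prev)) := by
  simp only [List.all_cons, List.all_nil, Bool.and_true, Bool.and_eq_true] at hmem
  obtain ⟨A, hA, hAa⟩ := exists_stab_rep hprev hmem.1
  obtain ⟨B, hB, hBb⟩ := exists_stab_rep hprev hmem.2
  obtain ⟨H, hH, hHh⟩ := exists_rep_M24 hh
  have hprev' : ∀ b ∈ prev, b < 24 :=
    fun b hb => by simpa [Nat.blt_eq] using List.all_eq_true.1 hprev b hb
  simp only [List.all_eq_true, List.contains_iff_mem] at hmask hpt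
  have hconj : ∀ g ∈ stabG masks prev, H⁻¹ * g * H ∈ stabG masks prev := by
    intro g hg
    refine ⟨Subgroup.mul_mem _ (Subgroup.mul_mem _ (Subgroup.inv_mem _ hH) hg.1) hH,
      fun m hm => ?_, fun q hq => ?_⟩
    · rw [mul_smul, mul_smul, ← hHh.toSet_actP, hg.2.1 _ (hmask m hm), inv_smul_eq_iff,
        hHh.toSet_actP]
    · have h1 := hpt q hq
      rw [hHh q (hprev' q hq)] at h1
      have h2 := hg.2.2 _ h1
      rw [pt_idx] at h2
      simp [h2]
  let f : stabG masks prev →* stabG masks prev :=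
    { toFun := fun g => ⟨H⁻¹ * g.1 * H, hconj _ g.2⟩
      map_one' := Subtype.ext (by simp)
      map_mul' := fun g g' => Subtype.ext (by simp [mul_assoc]) }
  have hf : Function.Bijective f := Finite.injective_iff_bijective.1 fun g g' e => by
    have e' : H⁻¹ * g.1 * H = H⁻¹ * g'.1 * H := congrArg Subtype.val e
    exact Subtype.ext (mul_left_cancel (mul_right_cancel e'))
  rw [Finite.one_lt_card_iff_nontrivial]
  refine ⟨⟨QuotientGroup.mk (MulEquiv.ofBijective f hf), 1, fun he => ?_⟩⟩
  obtain ⟨g, hg⟩ := (QuotientGroup.eq_one_iff _).1 he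
  have hcomm : ∀ x ∈ stabG masks prev, (H * g.1) * x = x * (H * g.1) := by
    intro x hx
    have e : g.1 * x * g.1⁻¹ = H⁻¹ * x * H := by
      have e0 := congrArg Subtype.val (DFunLike.congr_fun hg (⟨x, hx⟩ : stabG masks prev))
      exact e0
    calc (H * g.1) * x = H * (g.1 * x * g.1⁻¹) * g.1 := by group
      _ = x * (H * g.1) := by rw [e]; group
  have hz : H * g.1 ∈ stabG [] [] :=
    ⟨Subgroup.mul_mem _ hH g.2.1, fun m hm => (List.not_mem_nil hm).elim,
      fun q hq => (List.not_mem_nil hq).elim⟩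
  have hzmem := canon_mem_dfs hplan hz (by simp) hAa hAa (hcomm A hA)
  have hz1 := List.all_eq_true.1 hC _ hzmem
  simp only [Bool.or_eq_true, Bool.not_eq_true'] at hz1
  have hone : H * g.1 = 1 := by
    rcases hz1 with h1 | h1
    · rw [(eqP_iff (hBb.mul (rep_canon _)) ((rep_canon _).mul hBb)).2 (hcomm B hB).symm] at h1
      exact absurd h1 (by decide)
    · exact (eqP_iff (rep_canon _) rep_idP).1 h1
  have hHG : H ∈ stabG masks prev := by
    rw [eq_inv_of_mul_eq_one_left hone]
    exact Subgroup.inv_mem _ g.2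
  simp only [Bool.or_eq_true, List.any_eq_true, Bool.and_eq_true, Bool.not_eq_true',
    Nat.blt_eq] at hout
  rcases hout with ⟨m, hm, hlt, hne⟩ | ⟨q, hq, hne⟩
  · have h1 := hHh.mask_smul (toSet m)
    rw [hHG.2.1 m hm, mask_toSet (by simpa using hlt)] at h1
    rw [← h1] at hne
    simp at hne
  · rw [(hHh.fix_iff (hprev' q hq)).1 (hHG.2.2 q hq)] at hne
    simp at hne

/-! ### The small Mathieu groups as stabilisers -/

/-- the dodecad of squares and its complement -/
def dodMasks : List ℕ := [340831, 16436384]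

theorem stabG_M24 : stabG [] [] = M24 :=
  Subgroup.ext fun g => ⟨fun h => h.1, fun h => ⟨h, by simp, by simp⟩⟩

theorem pt_23 : pt 23 = (none : GolayPt) := by decide

theorem pt_zero : pt 0 = (some 0 : GolayPt) := by decide

theorem stabG_M23 : stabG [] [23] = Spor.M23 := by
  refine Subgroup.ext fun g => ?_
  simp only [mem_stabG, Cfsg.Spor.M23, Subgroup.mem_inf, MulAction.mem_stabilizer_iff,
    Equiv.Perm.smul_def, List.mem_singleton, forall_eq, pt_23]
  simp

theorem stabG_M22 : stabG [] [23, 0] = Spor.M22 := by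
  refine Subgroup.ext fun g => ?_
  simp only [mem_stabG, Cfsg.Spor.M22, Cfsg.Spor.M23, Subgroup.mem_inf,
    MulAction.mem_stabilizer_iff, Equiv.Perm.smul_def, List.forall_mem_cons, pt_23, pt_zero]
  simp [and_assoc]

theorem toSet_squares : toSet 340831 = Spor.squareDodecad := toSet_dodec0

theorem toSet_compl_squares : toSet 16436384 = (toSet 340831)ᶜ := by
  rw [← toSet_compl]; rfl

theorem smul_compl_eq {g : Equiv.Perm GolayPt} {s : Finset GolayPt} (h : g • s = s) :
    g • sᶜ = sᶜ := by
  ext x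
  rw [← Finset.inv_smul_mem_iff, Finset.mem_compl, Finset.mem_compl, Finset.inv_smul_mem_iff, h]

theorem mem_stabG_dod {g : Equiv.Perm GolayPt} {prev : List ℕ} :
    g ∈ stabG dodMasks prev ↔
      g ∈ Spor.M12 ∧ ∀ b ∈ prev, g (pt b) = pt b := by
  simp only [mem_stabG, dodMasks, Cfsg.Spor.M12, Subgroup.mem_inf, MulAction.mem_stabilizer_iff,
    ← toSet_squares, List.forall_mem_cons, List.not_mem_nil, IsEmpty.forall_iff, implies_true,
    and_true, toSet_compl_squares]
  constructor
  · rintro ⟨h1, ⟨h2, -⟩, h3⟩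
    exact ⟨⟨h1, h2⟩, h3⟩
  · rintro ⟨⟨h1, h2⟩, h3⟩
    exact ⟨h1, ⟨h2, smul_compl_eq h2⟩, h3⟩

theorem stabG_M12 : stabG dodMasks [] = Spor.M12 :=
  Subgroup.ext fun g => by simp [mem_stabG_dod]

theorem stabG_M11 : stabG dodMasks [0] = Spor.M11 := by
  refine Subgroup.ext fun g => ?_
  rw [mem_stabG_dod]
  simp [Cfsg.Spor.M11, pt_zero]

theorem squareDodecad_mem : Spor.squareDodecad ∈ dodecads := toSet_squares ▸ dodec0_mem

theorem natCard_M23 : Nat.card Spor.M23 = 10200960 := by
  rw [← natCard_stab_point (none : GolayPt)]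
  exact Nat.card_congr ⟨fun g => ⟨⟨g.1, g.2.1⟩, g.2.2⟩, fun g => ⟨g.1.1, g.1.2, g.2⟩,
    fun _ => rfl, fun _ => rfl⟩

theorem natCard_M22 : Nat.card Spor.M22 = 443520 := by
  rw [← natCard_stab_two (p := (none : GolayPt)) (q := some 0) (by simp)]
  exact Nat.card_congr ⟨fun g => ⟨⟨g.1, g.2.1.1⟩, g.2.1.2, g.2.2⟩,
    fun g => ⟨g.1.1, ⟨g.1.2, g.2.1⟩, g.2.2⟩, fun _ => rfl, fun _ => rfl⟩

theorem natCard_M12 : Nat.card Spor.M12 = 95040 := by
  rw [← natCard_stab_dodecad squareDodecad_mem]
  exact Nat.card_congr ⟨fun g => ⟨⟨g.1, g.2.1⟩, g.2.2⟩, fun g => ⟨g.1.1, g.1.2, g.2⟩,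
    fun _ => rfl, fun _ => rfl⟩

theorem natCard_M11 : Nat.card Spor.M11 = 7920 := by
  rw [← natCard_stab_dodecad_point squareDodecad_mem (p := (some 0 : GolayPt))
    (toSet_squares ▸ by decide +kernel)]
  exact Nat.card_congr ⟨fun g => ⟨⟨g.1, g.2.1.1⟩, g.2.1.2, g.2.2⟩,
    fun g => ⟨g.1.1, ⟨g.1.2, g.2.1⟩, g.2.2⟩, fun _ => rfl, fun _ => rfl⟩

end CfsgLib.MathieuOut
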