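import Mathlib
import Cfsg.Prelude.Def_KGroupFacts

/-!
Bounding the outer automorphism group of a finite group generated by an element `a` of prime
order `p` (with `p²` not dividing the order), an element `b` normalising it and a third element `c`
normalising `⟨b⟩`.
-/

set_option autoImplicit false

namespace CfsgLib.MathieuOut

open Cfsg

variable {G : Type*} [Group G] [Finite G]

omit [Finite G] in
theorem conj_pow_eq {a b : G} {s : ℕ} (hb : b * a * b⁻¹ = a ^ s) (n : ℕ) :
    b ^ n * a * (b ^ n)⁻¹ = a ^ (s ^ n) := by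
  induction n with
  | zero => simp
  | succ n ih =>
    rw [pow_succ', mul_inv_rev, show b * b ^ n * a * ((b ^ n)⁻¹ * b⁻¹)
      = b * (b ^ n * a * (b ^ n)⁻¹) * b⁻¹ by group, ih, ← conj_pow, hb, ← pow_mul, pow_succ']

/-- some conjugate of an element of order `p` is a power of `a` -/
theorem exists_conj_eq_pow {p : ℕ} [hp : Fact p.Prime] (hp2 : ¬ p ^ 2 ∣ Nat.card G) {a x : G}
    (ha : orderOf a = p) (hx : orderOf x = p) :
    ∃ g : G, ∃ j < p, j ≠ 0 ∧ g * x * g⁻¹ = a ^ j := by
  have hdvd : p ∣ Nat.card G := ha ▸ orderOf_dvd_natCard a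
  have hf : (Nat.card G).factorization p = 1 := by
    have h0 : Nat.card G ≠ 0 := Nat.card_pos.ne'
    have h1 := (hp.out.dvd_iff_one_le_factorization h0).1 hdvd
    by_contra hne
    exact hp2 ((hp.out.pow_dvd_iff_le_factorization h0).2 (by omega))
  have hcard : ∀ y : G, orderOf y = p →
      Nat.card (Subgroup.zpowers y) = p ^ (Nat.card G).factorization p := fun y hy => by
    rw [hf, pow_one, Nat.card_zpowers, hy]
  let P : Sylow p G := Sylow.ofCard (Subgroup.zpowers a) (hcard a ha)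
  let Q : Sylow p G := Sylow.ofCard (Subgroup.zpowers x) (hcard x hx)
  obtain ⟨g, hg⟩ := MulAction.exists_smul_eq G Q P
  have hmem : g * x * g⁻¹ ∈ Subgroup.zpowers a := by
    have hgP : ((g • Q : Sylow p G) : Subgroup G) = Subgroup.zpowers a := by
      rw [hg]; exact Sylow.coe_ofCard _ _
    rw [← hgP, Sylow.coe_subgroup_smul, Sylow.coe_ofCard]
    exact Subgroup.smul_mem_pointwise_smul x (MulAut.conj g) _ (Subgroup.mem_zpowers x)
  obtain ⟨j, hj⟩ := (isOfFinOrder_of_finite a).mem_powers_iff_mem_zpowers.2 hmem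
  refine ⟨g, j % p, Nat.mod_lt _ hp.out.pos, fun h0 => ?_, ?_⟩
  · have h1 : g * x * g⁻¹ = 1 := by
      rw [← hj]; show a ^ j = 1
      rw [← pow_mod_orderOf, ha, h0, pow_zero]
    rw [conj_eq_one_iff] at h1
    rw [h1, orderOf_one] at hx
    exact hp.out.one_lt.ne hx
  · rw [← hj]; show a ^ j = a ^ (j % p)
    rw [← ha, pow_mod_orderOf]

theorem natCard_out_le {κ : Type*} [DecidableEq κ] {p : ℕ} [hp : Fact p.Prime]
    (hp2 : ¬ p ^ 2 ∣ Nat.card G) {a b c : G} (ha : orderOf a = p) {s k : ℕ}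
    (hb : b * a * b⁻¹ = a ^ s) (hc : c * b = b ^ k * c)
    (hgen : Subgroup.closure ({a, b, c} : Set G) = ⊤)
    (hs1 : ((s : ZMod p) - 1) ≠ 0)
    (hs : ∀ j < p, j ≠ 0 → ∃ i < p, j * s ^ i % p = 1 ∨ j * s ^ i % p = p - 1)
    (hC : ∀ g : G, g * a = a * g → ∃ t : ℕ, g = a ^ t)
    (key : G → κ) (hkey : Function.Injective key) (L : List (κ × κ))
    (hL : ∀ φ : MulAut G, φ b = b → (φ a = a ∨ φ a = a⁻¹) → φ c * b = b ^ k * φ c →
      (key (φ a), key (φ c)) ∈ L) :
    Nat.card (Out G) ≤ L.length := by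
  have rep : ∀ o : Out G, ∃ φ : MulAut G, QuotientGroup.mk φ = o ∧ φ b = b ∧
      (φ a = a ∨ φ a = a⁻¹) := by
    intro o
    obtain ⟨φ, rfl⟩ := QuotientGroup.mk_surjective o
    have hmk : ∀ (g : G) (ψ : MulAut G),
        (QuotientGroup.mk (MulAut.conj g * ψ) : Out G) = QuotientGroup.mk ψ := by
      intro g ψ
      rw [QuotientGroup.mk_mul]
      have : (QuotientGroup.mk (MulAut.conj g) : Out G) = 1 :=
        (QuotientGroup.eq_one_iff _).2 ⟨g, rfl⟩
      rw [this, one_mul]
    obtain ⟨g, j, hjp, hj0, hgj⟩ := exists_conj_eq_pow hp2 ha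
      (x := φ a) ((orderOf_injective φ.toMonoidHom φ.injective a).trans ha)
    obtain ⟨i, -, hi⟩ := hs j hjp hj0
    set ψ : MulAut G := MulAut.conj (b ^ i * g) * φ with hψ
    have hψa : ψ a = a ∨ ψ a = a⁻¹ := by
      have h1 : ψ a = a ^ (j * s ^ i % p) := by
        have h2 : ψ a = b ^ i * (g * φ a * g⁻¹) * (b ^ i)⁻¹ := by
          simp only [hψ, MulAut.mul_apply, MulAut.conj_apply, mul_inv_rev, mul_assoc]
        rw [h2, hgj, ← conj_pow, conj_pow_eq hb, ← pow_mul, mul_comm (s ^ i) j, ← ha,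
          pow_mod_orderOf]
      rcases hi with hi | hi
      · left; rw [h1, hi, pow_one]
      · right
        rw [h1, hi]
        refine eq_inv_of_mul_eq_one_left ?_
        rw [← pow_succ, Nat.sub_add_cancel hp.out.one_le, ← ha, pow_orderOf_eq_one]
    -- the image of `b` differs from `b` by a power of `a`
    have hcomm : ψ b * b⁻¹ * a = a * (ψ b * b⁻¹) := by
      have h1 : ψ b * ψ a * (ψ b)⁻¹ = ψ a ^ s := by
        rw [← map_inv, ← map_mul, ← map_mul, hb, map_pow]
      have h3 : ψ b * a * (ψ b)⁻¹ = a ^ s := by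
        rcases hψa with h | h <;> rw [h] at h1
        · exact h1
        · rw [inv_pow] at h1
          calc ψ b * a * (ψ b)⁻¹ = (ψ b * a⁻¹ * (ψ b)⁻¹)⁻¹ := by group
            _ = a ^ s := by rw [h1, inv_inv]
      have h4 : ψ b * b⁻¹ * (a ^ s) * (ψ b * b⁻¹)⁻¹ = a ^ s := by
        calc ψ b * b⁻¹ * (a ^ s) * (ψ b * b⁻¹)⁻¹
            = ψ b * (b⁻¹ * (a ^ s) * b) * (ψ b)⁻¹ := by group
          _ = ψ b * a * (ψ b)⁻¹ := by rw [← hb]; group
          _ = a ^ s := h3
      have h5 : Commute (ψ b * b⁻¹) (a ^ s) := mul_inv_eq_iff_eq_mul.1 h4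
      have hcop : Nat.Coprime s (orderOf a) := by
        rw [ha]
        refine ((hp.out.coprime_iff_not_dvd).2 fun hd => ?_).symm
        have hz : a ^ s = 1 := orderOf_dvd_iff_pow_eq_one.1 (ha ▸ hd)
        rw [hz] at hb
        rw [conj_eq_one_iff.1 hb, orderOf_one] at ha
        exact hp.out.one_lt.ne ha
      obtain ⟨r, hr⟩ := exists_pow_eq_self_of_coprime hcop
      have := h5.pow_right r
      rw [hr] at this
      exact this
    obtain ⟨t, ht⟩ := hC _ hcomm
    set u : ℕ := ((t : ZMod p) * ((s : ZMod p) - 1)⁻¹).val with hu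
    have hψb : (MulAut.conj (a ^ u) * ψ) b = b := by
      have h1 : ψ b = a ^ t * b := by rw [← ht, inv_mul_cancel_right]
      have h2 : b * a ^ u = a ^ (s * u) * b := by
        have h3 : b * a ^ u * b⁻¹ = a ^ (s * u) := by rw [← conj_pow, hb, ← pow_mul]
        rw [← h3, inv_mul_cancel_right]
      have h4 : a ^ (u + t) = a ^ (s * u) := by
        rw [pow_eq_pow_iff_modEq, ha, ← ZMod.natCast_eq_natCast_iff]
        simp only [Nat.cast_add, Nat.cast_mul, hu, ZMod.natCast_val, ZMod.cast_id', id_eq]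
        field_simp
        ring
      calc (MulAut.conj (a ^ u) * ψ) b = a ^ (u + t) * b * (a ^ u)⁻¹ := by
            rw [MulAut.mul_apply, MulAut.conj_apply, h1, pow_add]; group
        _ = b := by rw [h4, ← h2, mul_inv_cancel_right]
    refine ⟨MulAut.conj (a ^ u) * ψ, by rw [hmk, hψ, hmk], hψb, ?_⟩
    have hau : Commute (a ^ u) a := (Commute.refl a).pow_left u
    rcases hψa with h | h
    · left; rw [MulAut.mul_apply, h, MulAut.conj_apply, hau.eq, mul_inv_cancel_right]
    · right; rw [MulAut.mul_apply, h, MulAut.conj_apply, hau.inv_right.eq, mul_inv_cancel_right]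
  choose Φ hΦ hΦb hΦa using rep
  have hmem : ∀ o, (key (Φ o a), key (Φ o c)) ∈ L.toFinset := fun o => by
    refine List.mem_toFinset.2 (hL _ (hΦb o) (hΦa o) ?_)
    have := congrArg (Φ o) hc
    rwa [map_mul, map_mul, map_pow, hΦb o] at this
  have hinj : Function.Injective (fun o => (⟨_, hmem o⟩ : L.toFinset)) := by
    intro o o' h
    simp only [Subtype.mk.injEq, Prod.mk.injEq] at h
    have heq : (Φ o).toMonoidHom = (Φ o').toMonoidHom := by
      refine MonoidHom.eq_of_eqOn_dense hgen ?_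
      rintro x (rfl | rfl | rfl)
      · exact hkey h.1
      · exact (hΦb o).trans (hΦb o').symm
      · exact hkey h.2
    rw [← hΦ o, ← hΦ o']
    congr 1
    exact MulEquiv.ext fun x => DFunLike.congr_fun heq x
  refine (Nat.card_le_card_of_injective _ hinj).trans ?_
  rw [Nat.card_eq_finsetCard]
  exact List.toFinset_card_le L

end CfsgLib.MathieuOut
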