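import Cfsg.Agent.Lib.Spor.Transit

/-!
Packed permutations of the 24 points in canonical form, words, and a lower bound on the order of a
subgroup from transversal levels.
-/

set_option autoImplicit false

namespace CfsgLib.MathieuOut

open Cfsg CfsgLib.Spor
open scoped Pointwise

/-- packed identity -/
def idP : ℕ := 984818244535754528103549039458486304

theorem idP_eq : packL (List.range 24) = idP := by decide +kernel

/-- canonical packed form of a permutation -/
irreducible_def canon (σ : Equiv.Perm GolayPt) : ℕ := packL ((List.range 24).map fun i => idx (σ (pt i)))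

/-- canonical form of a packed permutation -/
def normP (a : ℕ) : ℕ := packL ((List.range 24).map (getP a))

/-- the same 24 images -/
def eqP (a b : ℕ) : Bool := (List.range 24).all fun i => Nat.beq (getP a i) (getP b i)

theorem rep_canon (σ : Equiv.Perm GolayPt) : Rep σ (canon σ) := by
  intro i hi
  rw [canon_def, getP_packL _ _ (by simpa using hi)]
  simp [Nat.mod_eq_of_lt (lt_trans (idx_lt _) (show 24 < 32 by norm_num))]

theorem canon_injective : Function.Injective canon := fun σ τ h =>
  Rep.inj (a := canon σ) (rep_canon σ) (by rw [h]; exact rep_canon τ)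

theorem rep_idP : Rep 1 idP := idP_eq ▸ rep_one

theorem canon_eq_normP {σ : Equiv.Perm GolayPt} {a : ℕ} (h : Rep σ a) : canon σ = normP a :=
  (canon_def σ).trans (congrArg packL (List.map_congr_left fun i hi => (h i (List.mem_range.1 hi)).symm))

theorem eqP_iff {σ τ : Equiv.Perm GolayPt} {a b : ℕ} (h : Rep σ a) (h' : Rep τ b) :
    eqP a b = true ↔ σ = τ := by
  simp only [eqP, List.all_eq_true, List.mem_range, Nat.beq_eq]
  constructor
  · intro hab
    exact h.inj fun i hi => (hab i hi).trans (h' i hi)
  · rintro rfl i hi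
    rw [h i hi, h' i hi]

/-- `n`-th power -/
def powP (a : ℕ) : ℕ → ℕ
  | 0 => idP
  | n + 1 => compP a (powP a n)

theorem rep_pow {σ : Equiv.Perm GolayPt} {a : ℕ} (h : Rep σ a) : ∀ n, Rep (σ ^ n) (powP a n)
  | 0 => by rw [pow_zero, powP]; exact rep_idP
  | n + 1 => by rw [pow_succ']; exact h.mul (rep_pow h n)

/-- value of a word in the letters `gs` -/
def evalW (gs : List ℕ) : List ℕ → ℕ
  | [] => idP
  | i :: w => compP (gs.getD i idP) (evalW gs w)

theorem rep_evalW {gs : List ℕ} {σs : List (Equiv.Perm GolayPt)}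
    (h : ∀ i, Rep (σs.getD i 1) (gs.getD i idP)) :
    ∀ w : List ℕ, Rep ((w.map fun i => σs.getD i 1).prod) (evalW gs w)
  | [] => by rw [List.map_nil, List.prod_nil, evalW]; exact rep_idP
  | i :: w => by rw [List.map_cons, List.prod_cons]; exact (h i).mul (rep_evalW h w)

theorem rep_getD_three {σ τ ρ : Equiv.Perm GolayPt} {a b c : ℕ} (ha : Rep σ a) (hb : Rep τ b)
    (hc : Rep ρ c) : ∀ i, Rep ([σ, τ, ρ].getD i 1) ([a, b, c].getD i idP)
  | 0 => by simp only [List.getD_cons_zero]; exact ha
  | 1 => by simp only [List.getD_cons_succ, List.getD_cons_zero]; exact hb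
  | 2 => by simp only [List.getD_cons_succ, List.getD_cons_zero]; exact hc
  | _ + 3 => by simp only [List.getD_cons_succ, List.getD_nil]; exact rep_idP

/-! ### Order of a subgroup from below -/

/-- every element of a level fixes the earlier base points and the images of the base point are
distinct -/
def levelsLow : List ℕ → List (ℕ × List ℕ) → Bool
  | _, [] => true
  | prev, (b, T) :: r =>
    Nat.blt b 24 && (T.all fun t => prev.all fun q => Nat.beq (getP t q) q)
      && decide (T.map fun t => getP t b).Nodup && levelsLow (prev ++ [b]) r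

theorem prod_le_card {K : Subgroup (Equiv.Perm GolayPt)} :
    ∀ (L : List (ℕ × List ℕ)) (prev : List ℕ), levelsLow prev L = true →
      (∀ q ∈ prev, q < 24) → (∀ l ∈ L, ∀ t ∈ l.2, RepIn K t) →
      (L.map fun l => l.2.length).prod ≤ Nat.card (fixL K prev) := by
  intro L
  induction L with
  | nil =>
    intro prev _ _ _
    rw [List.map_nil, List.prod_nil]
    exact Nat.card_pos
  | cons l r ih =>
    obtain ⟨b, T⟩ := l
    intro prev h hprev hT
    simp only [levelsLow, Bool.and_eq_true, Nat.blt_eq, List.all_eq_true, decide_eq_true_eq,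
      Nat.beq_eq] at h
    obtain ⟨⟨⟨hb, hfix⟩, hnd⟩, hr⟩ := h
    have hprev' : ∀ q ∈ prev ++ [b], q < 24 := by
      simp only [List.mem_append, List.mem_singleton]
      rintro q (hq | rfl)
      · exact hprev q hq
      · exact hb
    have hrec := ih (prev ++ [b]) hr hprev' fun l hl => hT l (List.mem_cons_of_mem _ hl)
    have hsig : ∀ i : Fin T.length, ∃ σ ∈ fixL K prev, Rep σ T[i] := fun i => by
      obtain ⟨σ, hσ, hσt⟩ := hT (b, T) List.mem_cons_self T[i] (List.getElem_mem i.2)
      exact ⟨σ, mem_fixL.2 ⟨hσ, fun q hq =>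
        (hσt.fix_iff (hprev q hq)).2 (hfix _ (List.getElem_mem i.2) q hq)⟩, hσt⟩
    choose σ hσ hσt using hsig
    have hsub : ∀ g ∈ fixL K (prev ++ [b]), g ∈ fixL K prev ∧ g (pt b) = pt b := fun g hg => by
      obtain ⟨h1, h2⟩ := mem_fixL.1 hg
      exact ⟨mem_fixL.2 ⟨h1, fun q hq => h2 q (by simp [hq])⟩, h2 b (by simp)⟩
    let F : Fin T.length × ↥(fixL K (prev ++ [b])) → ↥(fixL K prev) := fun x =>
      ⟨σ x.1 * x.2.1, Subgroup.mul_mem _ (hσ x.1) (hsub _ x.2.2).1⟩
    have hF : Function.Injective F := by
      rintro ⟨i, g⟩ ⟨j, g'⟩ he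
      have he' : σ i * g.1 = σ j * g'.1 := congrArg Subtype.val he
      have him := congrArg (fun f : Equiv.Perm GolayPt => idx (f (pt b))) he'
      simp only [Equiv.Perm.mul_apply, (hsub _ g.2).2, (hsub _ g'.2).2, ← hσt _ b hb] at him
      have hi : (i : ℕ) = (j : ℕ) := by
        refine (hnd.getElem_inj_iff (hi := by simp) (hj := by simp)).1 ?_
        simpa using him
      obtain rfl := Fin.ext hi
      exact Prod.ext rfl (Subtype.ext (mul_left_cancel he'))
    have hle := Nat.card_le_card_of_injective F hF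
    rw [Nat.card_prod, Nat.card_fin] at hle
    rw [List.map_cons, List.prod_cons]
    exact le_trans (Nat.mul_le_mul_left _ hrec) hle

theorem eq_of_levels {G K : Subgroup (Equiv.Perm GolayPt)} (hKG : K ≤ G) {gens : List ℕ}
    (hgens : ∀ a ∈ gens, RepIn K a) (rows : List (ℕ × ℕ × ℕ)) (hrows : checkSLP rows gens = true)
    (L : List (ℕ × List ℕ)) (hlow : levelsLow [] L = true)
    (hsub : (L.all fun l => l.2.all fun t =>
      Nat.beq t idP || gens.any (Nat.beq t) || rows.any fun e => Nat.beq t e.1) = true)
    (hcard : Nat.card G ≤ (L.map fun l => l.2.length).prod) : K = G := by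
  have hall := repIn_of_checkSLP rows gens hrows hgens
  have hT : ∀ l ∈ L, ∀ t ∈ l.2, RepIn K t := by
    intro l hl t ht
    have h0 := List.all_eq_true.1 (List.all_eq_true.1 hsub l hl) t ht
    simp only [Bool.or_eq_true, Nat.beq_eq, List.any_eq_true] at h0
    rcases h0 with (h | ⟨e, he, h⟩) | ⟨e, he, h⟩
    · rw [h, ← idP_eq]; exact RepIn.one K
    · rw [h]; exact hgens e he
    · rw [h]; exact hall e he
  exact Subgroup.eq_of_le_of_card_ge hKG
    (hcard.trans (prod_le_card L [] hlow (by simp) hT))

end CfsgLib.MathieuOut
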